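import Cfsg.Agent.H26.Ore.Rel
import Cfsg.Agent.H843.N11
import Cfsg.Agent.H256.Sep.FiData
import Cfsg.Agent.H201.Fi.Arith2

/-!
# `Fi24'`: the degree and the value at a product of two commuting transpositions, modulo 11 (helper843)
-/

set_option autoImplicit false
set_option linter.constructorNameAsVariable false
set_option maxRecDepth 20000

namespace Cfsg.Agent.H843.Ore.R11

open Cfsg Subgroup
open Cfsg.Agent.Fischer Cfsg.Agent.Fischer.Fi24RepDef Cfsg.Agent.Fischer.Fi24Rep
open Cfsg.Agent.Fischer.Fi24Final (sgn)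
open Cfsg.Agent.R08.FiTwentyFour (L finite_Fi24 mem_commutator_iff sgn_L)
open Cfsg.Agent.KFacts.FiTF.Pts
open Cfsg.Agent.H843 Cfsg.Agent.H843.D11
open Cfsg.Agent.SmallSimple.ThetaSetup
open Cfsg.Spor (Fi24)
open Cfsg.Spor.Fi24 (Gen)

theorem sgn_of_odd {g : Fi24} {n : ℕ} (hn : Odd n) (h : g ^ n = 1) : sgn g = 1 := by
  have h1 : sgn g ^ n = 1 := by rw [← map_pow, h, map_one]
  rcases Int.units_eq_one_or (sgn g) with h2 | h2
  · exact h2
  · rw [h2, hn.neg_one_pow] at h1
    exact absurd h1 (by decide)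

/-- half of the elements of a subgroup containing a transposition are even -/
theorem card_half (B : Subgroup Fi24) {t : Fi24} (ht : t ∈ B) (htL : t ∈ L) :
    Nat.card B = 2 * Nat.card (B.subgroupOf (commutator Fi24)) := by
  have := finite_Fi24
  let f : B →* ℤˣ := sgn.comp B.subtype
  have hr : f.range = ⊤ := by
    rw [eq_top_iff]
    intro u _
    rcases Int.units_eq_one_or u with h | h
    · rw [h]; exact one_mem _
    · rw [h]; exact ⟨⟨t, ht⟩, sgn_L htL⟩
  have h1 := Subgroup.card_eq_card_quotient_mul_card_subgroup f.ker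
  rw [Nat.card_congr (QuotientGroup.quotientKerEquivRange f).toEquiv, hr, Nat.card_congr Subgroup.topEquiv.toEquiv,
    Nat.card_eq_fintype_card (α := ℤˣ), Fintype.card_units_int] at h1
  rw [h1]
  congr 1
  refine Nat.card_congr ⟨fun b => ⟨⟨b.1.1, mem_commutator_iff.2 b.2⟩, mem_subgroupOf.2 b.1.2⟩,
    fun b => ⟨⟨b.1.1, mem_subgroupOf.1 b.2⟩, mem_commutator_iff.1 b.1.2⟩, fun b => rfl, fun b => rfl⟩

/-! ### The elements -/

theorem x_mem : D.x ∈ commutator Fi24 :=
  mem_commutator_iff.2 (sgn_of_odd (n := 11) (by decide) (by rw [← order, pow_orderOf_eq_one]))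

theorem c_mem : word cw ∈ commutator Fi24 :=
  mem_commutator_iff.2 (sgn_of_odd (n := 3) (by decide) (by rw [← orderc, pow_orderOf_eq_one]))

/-- the element of order 11 -/
noncomputable def x : Spor.Fi24' := ⟨D.x, x_mem⟩

noncomputable def c : Spor.Fi24' := ⟨word cw, c_mem⟩

/-- the products -/
noncomputable def z : Spor.Fi24' := ⟨Fi24Rep.gen .i * word d2w, Cfsg.Agent.R08.FiTwentyFour.even t1.mem t2.mem⟩
noncomputable def z2 : Spor.Fi24' := ⟨word d2w * word d3w, Cfsg.Agent.R08.FiTwentyFour.even t2.mem t3.mem⟩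
noncomputable def z3 : Spor.Fi24' := ⟨word d3w * Fi24Rep.gen .i, Cfsg.Agent.R08.FiTwentyFour.even t3.mem t1.mem⟩

theorem z_eq : (z : Fi24) = Fi24Rep.gen .i * word d2w := rfl

theorem t1_mem : Fi24Rep.gen .i ∈ L := t1.mem
theorem t2_mem : word d2w ∈ L := t2.mem

theorem q1 : Fi24Rep.gen .i * Fi24Rep.gen .i = 1 := Cfsg.Agent.R08.FiTwentyFour.sq t1.mem
theorem q2 : word d2w * word d2w = 1 := Cfsg.Agent.R08.FiTwentyFour.sq t2.mem
theorem q3 : word d3w * word d3w = 1 := Cfsg.Agent.R08.FiTwentyFour.sq t3.mem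

theorem order_x : orderOf x = 11 := by
  rw [← orderOf_coe]; exact order

theorem order_c : orderOf c = 3 := by
  rw [← orderOf_coe]; exact orderc

theorem z_sq : z * z = 1 := by
  apply Subtype.ext
  show Fi24Rep.gen .i * word d2w * (Fi24Rep.gen .i * word d2w) = 1
  rw [mul_assoc, ← mul_assoc (word d2w), ← c12.eq, mul_assoc, q2, mul_one, q1]

theorem z_ne : z ≠ 1 := by
  intro h
  have h1 : Fi24Rep.gen .i * word d2w = 1 := congrArg Subtype.val h
  apply n12
  calc Fi24Rep.gen .i = Fi24Rep.gen .i * word d2w * word d2w := by rw [mul_assoc, q2, mul_one]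
    _ = word d2w := by rw [h1, one_mul]

theorem cc1 : word cw * Fi24Rep.gen .i * (word cw)⁻¹ = word d2w := t1.conj_eq t2 ac'.1
theorem cc2 : word cw * word d2w * (word cw)⁻¹ = word d3w := t2.conj_eq t3 ac'.2.1
theorem cc3 : word cw * word d3w * (word cw)⁻¹ = Fi24Rep.gen .i := t3.conj_eq t1 ac'.2.2

theorem mul_conj {G : Type*} [Group G] {g a b a' b' : G} (ha : g * a * g⁻¹ = a') (hb : g * b * g⁻¹ = b') :
    g * (a * b) * g⁻¹ = a' * b' := by rw [← ha, ← hb]; group

theorem cz2 : c * z2 * c⁻¹ = z3 := Subtype.ext (mul_conj cc2 cc3)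
theorem cz3 : c * z3 * c⁻¹ = z := Subtype.ext (mul_conj cc3 cc1)

/-! ### The subgroups -/

/-- the even part of the group generated by the three transpositions -/
noncomputable def A : Subgroup Spor.Fi24' :=
  (closure ({Fi24Rep.gen .i, word d2w, word d3w} : Set Fi24)).subgroupOf (commutator Fi24)

theorem card_cl : Nat.card (closure ({Fi24Rep.gen .i, word d2w, word d3w} : Set Fi24)) = 8 :=
  Three.card_three q1 q2 q3 (Cfsg.Agent.R08.FiTwentyFour.ne_one_L t1.mem)
    (Cfsg.Agent.R08.FiTwentyFour.ne_one_L t2.mem) (Cfsg.Agent.R08.FiTwentyFour.ne_one_L t3.mem) n12 n13 n23 n123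
    c12 c13 c23

theorem card_A : Nat.card A = 4 := by
  have h := card_half (closure ({Fi24Rep.gen .i, word d2w, word d3w} : Set Fi24)) (subset_closure (Or.inl rfl)) t1.mem
  rw [card_cl] at h
  have h2 : 8 = 2 * Nat.card A := h
  omega

theorem m1 : Fi24Rep.gen .i ∈ closure ({Fi24Rep.gen .i, word d2w, word d3w} : Set Fi24) := subset_closure (Or.inl rfl)
theorem m2 : word d2w ∈ closure ({Fi24Rep.gen .i, word d2w, word d3w} : Set Fi24) :=
  subset_closure (Or.inr (Or.inl rfl))
theorem m3 : word d3w ∈ closure ({Fi24Rep.gen .i, word d2w, word d3w} : Set Fi24) :=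
  subset_closure (Or.inr (Or.inr rfl))

theorem z_memA : z ∈ A := mem_subgroupOf.2 (mul_mem m1 m2)
theorem z2_memA : z2 ∈ A := mem_subgroupOf.2 (mul_mem m2 m3)
theorem z3_memA : z3 ∈ A := mem_subgroupOf.2 (mul_mem m3 m1)

theorem cases_A {a : Spor.Fi24'} (ha : a ∈ A) (h1 : a ≠ 1) : a = z ∨ a = z2 ∨ a = z3 := by
  classical
  have := finite_Fi24
  have e12 : z ≠ z2 := by
    intro h
    have h1 : Fi24Rep.gen .i * word d2w = word d2w * word d3w := congrArg Subtype.val h
    rw [c12.eq] at h1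
    exact n13 (mul_left_cancel h1)
  have e13 : z ≠ z3 := by
    intro h
    have h1 : Fi24Rep.gen .i * word d2w = word d3w * Fi24Rep.gen .i := congrArg Subtype.val h
    rw [c12.eq] at h1
    exact n23 (mul_right_cancel h1)
  have e23 : z2 ≠ z3 := by
    intro h
    have h1 : word d2w * word d3w = word d3w * Fi24Rep.gen .i := congrArg Subtype.val h
    rw [c23.eq] at h1
    exact n12 (mul_left_cancel h1).symm
  have hz2 : z2 ≠ 1 := by
    intro h
    have h1 := cz2
    rw [h, mul_one, mul_inv_cancel] at h1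
    exact e23 (h.trans h1)
  have hz3 : z3 ≠ 1 := by
    intro h
    have h1 := cz3
    rw [h, mul_one, mul_inv_cancel] at h1
    exact z_ne h1.symm
  have hsub : ({1, z, z2, z3} : Set Spor.Fi24') ⊆ (A : Set Spor.Fi24') := by
    rintro y (rfl | rfl | rfl | rfl)
    · exact one_mem _
    · exact z_memA
    · exact z2_memA
    · exact z3_memA
  have hc : ({1, z, z2, z3} : Set Spor.Fi24').ncard = 4 := by
    rw [Set.ncard_insert_of_notMem, Set.ncard_insert_of_notMem, Set.ncard_pair e23]
    · simp [e12, e13]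
    · simp [z_ne.symm, hz2.symm, hz3.symm]
  have hA : (A : Set Spor.Fi24').ncard = 4 := by
    rw [← Nat.card_coe_set_eq]; exact card_A
  have heq := Set.eq_of_subset_of_ncard_le hsub (by rw [hA, hc])
  have h2 : a ∈ ({1, z, z2, z3} : Set Spor.Fi24') := by rw [heq]; exact ha
  rcases h2 with h2 | h2 | h2 | h2
  · exact absurd h2 h1
  · exact Or.inl h2
  · exact Or.inr (Or.inl h2)
  · exact Or.inr (Or.inr h2)

theorem cent_eq : centralizer ((zpowers x : Subgroup Spor.Fi24') : Set Spor.Fi24') =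
    (centralizer ((zpowers D.x : Subgroup Fi24) : Set Fi24)).subgroupOf (commutator Fi24) := by
  ext g
  rw [Cyc.mem_centralizer_zpowers, mem_subgroupOf, Cyc.mem_centralizer_zpowers]
  exact ⟨fun h => congrArg Subtype.val h, fun h => Subtype.ext h⟩

theorem norm_eq : normalizer ((zpowers x : Subgroup Spor.Fi24') : Set Spor.Fi24') =
    (normalizer ((zpowers D.x : Subgroup Fi24) : Set Fi24)).subgroupOf (commutator Fi24) := by
  have := finite_Fi24
  ext g
  rw [mem_subgroupOf]
  constructor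
  · intro h
    obtain ⟨k, -, hk⟩ := Cyc.exists_pow order_x (by norm_num) h
    exact Cyc.mem_normalizer (congrArg Subtype.val hk)
  · intro h
    obtain ⟨k, -, hk⟩ := Cyc.exists_pow order (by norm_num) h
    exact Cyc.mem_normalizer (Subtype.ext hk)

theorem card_cent : Nat.card (centralizer ((zpowers D.x : Subgroup Fi24) : Set Fi24)) = 264 := by
  have : Finite Fi24 := finite_Fi24
  refine Nat.dvd_antisymm H256.Sep.FiData.cent11 ?_
  have hC8 : (8 : ℕ) ∣ Nat.card (Subgroup.centralizer (Subgroup.zpowers D.x : Set Fi24)) := by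
    rw [← card_cl]
    apply Subgroup.card_dvd_of_le
    rw [Subgroup.closure_le, ← inter]
    exact fun y hy => hy.2
  have hC11 : (11 : ℕ) ∣ Nat.card (Subgroup.centralizer (Subgroup.zpowers D.x : Set Fi24)) := by
    have h3 : D.x ∈ Subgroup.centralizer (Subgroup.zpowers D.x : Set Fi24) :=
      Cyc.mem_centralizer_zpowers.2 rfl
    have h2 := Subgroup.orderOf_dvd_natCard _ h3
    rwa [order] at h2
  have hC3 : (3 : ℕ) ∣ Nat.card (Subgroup.centralizer (Subgroup.zpowers D.x : Set Fi24)) := by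
    have h3 : word cw ∈ Subgroup.centralizer (Subgroup.zpowers D.x : Set Fi24) :=
      Cyc.mem_centralizer_zpowers.2 comm_c.eq
    have h2 := Subgroup.orderOf_dvd_natCard _ h3
    rwa [orderc] at h2
  exact Nat.Coprime.mul_dvd_of_dvd_of_dvd (by norm_num : Nat.Coprime 88 3)
    (Nat.Coprime.mul_dvd_of_dvd_of_dvd (by norm_num : Nat.Coprime 11 8) hC11 hC8) hC3

theorem t1_cent : Fi24Rep.gen .i ∈ centralizer ((zpowers D.x : Subgroup Fi24) : Set Fi24) := by
  have h : Fi24Rep.gen .i ∈ L ∩ (centralizer ((zpowers D.x : Subgroup Fi24) : Set Fi24) : Set Fi24) := by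
    rw [inter]; exact Or.inl rfl
  exact h.2

theorem card_cent' : Nat.card (centralizer ((zpowers x : Subgroup Spor.Fi24') : Set Spor.Fi24')) = 132 := by
  rw [cent_eq]
  have h := card_half _ t1_cent t1.mem
  rw [card_cent] at h
  have h2 : 132 = Nat.card ((centralizer ((zpowers D.x : Subgroup Fi24) : Set Fi24)).subgroupOf
      (commutator Fi24)) := by omega
  exact h2.symm

theorem card_norm' : Nat.card (normalizer ((zpowers x : Subgroup Spor.Fi24') : Set Spor.Fi24')) = 1320 := by
  rw [norm_eq]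
  have h := card_half _ (centralizer_le_normalizer _ t1_cent) t1.mem
  rw [D11.main] at h
  have h2 : 1320 = Nat.card ((normalizer ((zpowers D.x : Subgroup Fi24) : Set Fi24)).subgroupOf
      (commutator Fi24)) := by omega
  exact h2.symm

theorem not_sq : ¬ 11 ^ 2 ∣ Nat.card Spor.Fi24' := by
  have h : Nat.card Spor.Fi24' = 1255205709190661721292800 := Cfsg.Agent.R08.FiTwentyFour.card_commutator
  rw [h]; norm_num

/-- **Residues modulo 11.** -/
theorem r11 (χ : IrrCharacter Spor.Fi24') {n b : ℤ} (hn : (χ : Spor.Fi24' → ℂ) 1 = n)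
    (hb : (χ : Spor.Fi24' → ℂ) z = b) : Cfsg.Agent.H201.Fi.R11 n b := by
  have := finite_Fi24
  have hF : Fact (Nat.Prime 11) := ⟨by norm_num⟩
  -- the Sylow subgroup
  obtain ⟨P, hPle⟩ := (IsPGroup.of_card (G := zpowers x) (p := 11) (n := 1)
    (by rw [Nat.card_zpowers, order_x, pow_one])).exists_le_sylow
  have hcP : Nat.card P = 11 := by
    have h := P.card_eq_multiplicity
    have h1 : (Nat.card Spor.Fi24').factorization 11 = 1 := by
      apply le_antisymm
      · by_contra hlt
        exact not_sq ((Nat.Prime.pow_dvd_iff_le_factorization hF.out Nat.card_pos.ne').2 (by omega))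
      · have h2 : 11 ∣ Nat.card Spor.Fi24' := by
          rw [← order_x]; exact orderOf_dvd_natCard x
        exact (Nat.Prime.dvd_iff_one_le_factorization hF.out Nat.card_pos.ne').1 h2
    rw [h1, pow_one] at h
    exact h
  have hP : (P : Subgroup Spor.Fi24') = zpowers x := by
    refine (Subgroup.eq_of_le_of_card_ge hPle ?_).symm
    rw [Nat.card_zpowers, order_x]
    exact hcP.le
  obtain ⟨K, hK⟩ := exists_isComp P hcP
  have hC : Nat.card (centralizer ((P : Subgroup Spor.Fi24') : Set Spor.Fi24')) = 132 := by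
    rw [hP]; exact card_cent'
  have he : (centralizer ((P : Subgroup Spor.Fi24') : Set Spor.Fi24')).relIndex
      (normalizer ((P : Subgroup Spor.Fi24') : Set Spor.Fi24')) = 10 := by
    have h2 := Subgroup.card_mul_index ((centralizer ((P : Subgroup Spor.Fi24') : Set Spor.Fi24')).subgroupOf
      (normalizer ((P : Subgroup Spor.Fi24') : Set Spor.Fi24')))
    have hN : Nat.card (normalizer ((P : Subgroup Spor.Fi24') : Set Spor.Fi24')) = 1320 := by
      rw [hP]; exact card_norm'
    rw [Nat.card_congr (Subgroup.subgroupOfEquivOfLe (centralizer_le_normalizer _)).toEquiv, hC, hN] at h2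
    have h3 : 132 * (centralizer ((P : Subgroup Spor.Fi24') : Set Spor.Fi24')).relIndex
      (normalizer ((P : Subgroup Spor.Fi24') : Set Spor.Fi24')) = 1320 := h2
    omega
  have hKc : Nat.card K = 12 := by
    have h1 := (Nat.card_congr (prodEquiv hK hcP).toEquiv).trans hC
    rw [Nat.card_prod] at h1
    have h2 : Nat.card (P : Subgroup Spor.Fi24') = 11 := hcP
    rw [h2] at h1
    omega
  have memK : ∀ {y : Spor.Fi24'} {k : ℕ}, y * x = x * y → orderOf y ∣ k → ¬ 11 ∣ k → y ∈ K := by
    intro y k h1 h2 h3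
    rw [hK]
    refine ⟨?_, fun h => h3 (h.trans h2)⟩
    rw [hP]
    exact Cyc.mem_centralizer_zpowers.2 h1
  have hcl : ∀ a ∈ closure ({Fi24Rep.gen .i, word d2w, word d3w} : Set Fi24),
      a ∈ centralizer ((zpowers D.x : Subgroup Fi24) : Set Fi24) := by
    intro a ha
    have h1 : closure ({Fi24Rep.gen .i, word d2w, word d3w} : Set Fi24) ≤
        centralizer ((zpowers D.x : Subgroup Fi24) : Set Fi24) := by
      rw [closure_le, ← inter]
      exact fun y hy => hy.2
    exact h1 ha
  have hAK : A ≤ K := by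
    intro a ha
    refine memK (k := 4) ?_ ?_ (by norm_num)
    · exact Subtype.ext (Cyc.mem_centralizer_zpowers.1 (hcl _ (mem_subgroupOf.1 ha)))
    · rw [← card_A]
      exact Subgroup.orderOf_dvd_natCard _ ha
  have hcK : c ∈ K := memK (k := 3) (Subtype.ext comm_c.eq) (by rw [order_c]) (by norm_num)
  have hAN : ∀ n ∈ normalizer ((P : Subgroup Spor.Fi24') : Set Spor.Fi24'), ∀ a ∈ A, n * a * n⁻¹ ∈ A := by
    intro g hg a ha
    rw [hP, norm_eq, mem_subgroupOf] at hg
    rw [A, mem_subgroupOf] at ha ⊢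
    have h1 : ∀ y ∈ closure ({Fi24Rep.gen .i, word d2w, word d3w} : Set Fi24),
        (g : Fi24) * y * (g : Fi24)⁻¹ ∈ closure ({Fi24Rep.gen .i, word d2w, word d3w} : Set Fi24) := by
      intro y hy
      induction hy using closure_induction with
      | mem y hy =>
        apply Subgroup.subset_closure
        rw [← inter] at hy ⊢
        refine ⟨Cfsg.Agent.R08.FiTwentyFour.conj hy.1 _, ?_⟩
        have h2 : (g : Fi24)⁻¹ ∈ normalizer ((zpowers D.x : Subgroup Fi24) : Set Fi24) := inv_mem hg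
        have h3 := hy.2
        rw [SetLike.mem_coe, mem_centralizer_iff] at h3 ⊢
        intro w hw
        have h4 := h3 ((g : Fi24)⁻¹ * w * (g : Fi24)) (by
          have h5 := (mem_normalizer_iff.1 h2 w).1 hw
          rwa [inv_inv] at h5)
        calc w * ((g : Fi24) * y * (g : Fi24)⁻¹)
            = (g : Fi24) * (((g : Fi24)⁻¹ * w * (g : Fi24)) * y) * (g : Fi24)⁻¹ := by group
          _ = (g : Fi24) * (y * ((g : Fi24)⁻¹ * w * (g : Fi24))) * (g : Fi24)⁻¹ := by rw [h4]
          _ = _ := by group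
      | one => rw [mul_one, mul_inv_cancel]; exact one_mem _
      | mul y w _ _ h1 h2 =>
        have h3 : (g : Fi24) * (y * w) * (g : Fi24)⁻¹ =
            (g : Fi24) * y * (g : Fi24)⁻¹ * ((g : Fi24) * w * (g : Fi24)⁻¹) := by group
        rw [h3]; exact mul_mem h1 h2
      | inv y _ h1 =>
        have h3 : (g : Fi24) * y⁻¹ * (g : Fi24)⁻¹ = ((g : Fi24) * y * (g : Fi24)⁻¹)⁻¹ := by group
        rw [h3]; exact inv_mem h1
    exact h1 _ ha
  have hconj : ∀ a ∈ A, a ≠ 1 → ∃ k ∈ K, k * a * k⁻¹ = z := by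
    intro a ha h1
    rcases cases_A ha h1 with rfl | rfl | rfl
    · exact ⟨1, one_mem _, by group⟩
    · refine ⟨c * c, mul_mem hcK hcK, ?_⟩
      calc c * c * z2 * (c * c)⁻¹ = c * (c * z2 * c⁻¹) * c⁻¹ := by group
        _ = z := by rw [cz2, cz3]
    · exact ⟨c, hcK, cz3⟩
  exact H26.Ore.Rel.rel11 hK hcP he hKc hAK card_A hAN z_memA z_ne z_sq hconj χ hn hb

end Cfsg.Agent.H843.Ore.R11
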